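import Mathlib

/-!
# Dimensions of fixed spaces under a Frobenius group of order prime to `p`

A representation over `ZMod p` of a group of order prime to `p` lifts to `ZMod (p ^ n)`; there the
trace of the averaging idempotent of a subgroup is the dimension of the fixed space, so a relation
between sums over subgroups gives the same relation between the dimensions.
-/

namespace Cfsg.Agent.WielandtFixed

open Matrix Module

variable {p n : ℕ} [hp : Fact p.Prime] {ι : Type*} [Fintype ι] [DecidableEq ι]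

/-- Reduction modulo `p`. -/
noncomputable def red (p n : ℕ) (hn : n ≠ 0) : ZMod (p ^ n) →+* ZMod p :=
  ZMod.castHom (dvd_pow_self p hn) (ZMod p)

theorem red_surjective (hn : n ≠ 0) : Function.Surjective (red p n hn) :=
  ZMod.castHom_surjective _

theorem isUnit_of_red (hn : n ≠ 0) {x : ZMod (p ^ n)} (hx : red p n hn x ≠ 0) : IsUnit x := by
  have : NeZero (p ^ n) := ⟨pow_ne_zero n hp.out.ne_zero⟩
  rw [← ZMod.natCast_zmod_val x] at hx ⊢
  rw [ZMod.isUnit_iff_coprime]
  refine Nat.Coprime.pow_right n ((hp.out.coprime_iff_not_dvd.2 fun h => hx ?_).symm)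
  rw [map_natCast, ZMod.natCast_eq_zero_iff]
  exact h

theorem isUnit_matrix_of_red (hn : n ≠ 0) {M : Matrix ι ι (ZMod (p ^ n))}
    (hM : IsUnit ((red p n hn).mapMatrix M)) : IsUnit M := by
  rw [Matrix.isUnit_iff_isUnit_det] at hM ⊢
  refine isUnit_of_red hn ?_
  rw [RingHom.map_det]
  exact hM.ne_zero

theorem matrix_lift (hn : n ≠ 0) (M : Matrix ι ι (ZMod p)) :
    ∃ M' : Matrix ι ι (ZMod (p ^ n)), (red p n hn).mapMatrix M' = M := by
  choose f hf using fun i j => red_surjective hn (M i j)
  exact ⟨Matrix.of f, by ext i j; simp [Matrix.of_apply, hf]⟩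

/-- A representation of a group of order prime to `p` lifts modulo `p ^ n`. -/
theorem exists_lift (hn : n ≠ 0) {G : Type*} [Group G] [Finite G] (hcop : p.Coprime (Nat.card G))
    (ρ : G →* Matrix ι ι (ZMod p)) :
    ∃ τ : G →* Matrix ι ι (ZMod (p ^ n)), ∀ g, (red p n hn).mapMatrix (τ g) = ρ g := by
  classical
  have : NeZero (p ^ n) := ⟨pow_ne_zero n hp.out.ne_zero⟩
  let f := Units.map ((red p n hn).mapMatrix (m := ι)).toMonoidHom
  let ρu : G →* (Matrix ι ι (ZMod p))ˣ := ρ.toHomUnits
  let Γ : Subgroup (G × (Matrix ι ι (ZMod (p ^ n)))ˣ) :=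
    { carrier := {x | f x.2 = ρu x.1}
      one_mem' := by simp
      mul_mem' := fun {a b} ha hb => by
        simp only [Set.mem_setOf_eq, Prod.fst_mul, Prod.snd_mul, map_mul] at *
        rw [ha, hb]
      inv_mem' := fun {a} ha => by
        simp only [Set.mem_setOf_eq, Prod.fst_inv, Prod.snd_inv, map_inv] at *
        rw [ha] }
  let π : Γ →* G := (MonoidHom.fst _ _).comp Γ.subtype
  have hπ : Function.Surjective π := fun g => by
    obtain ⟨M, hM⟩ := matrix_lift hn (ρ g)
    obtain ⟨u, hu⟩ := isUnit_matrix_of_red hn (M := M) (hM.symm ▸ ⟨ρu g, rfl⟩)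
    refine ⟨⟨(g, u), Units.ext ?_⟩, rfl⟩
    show (red p n hn).mapMatrix (u : Matrix ι ι (ZMod (p ^ n))) = ρ g
    rw [hu, hM]
  -- the kernel is a `p`-group
  let K := ((red p n hn).mapMatrix (m := ι)).toAddMonoidHom.ker
  have hker : Nat.card π.ker = Nat.card K := by
    refine Nat.card_eq_of_bijective (fun x => ⟨((x.1.1.2 : (Matrix ι ι (ZMod (p ^ n)))ˣ) :
      Matrix ι ι (ZMod (p ^ n))) - 1, ?_⟩) ⟨fun x y e => ?_, fun M => ?_⟩
    · have h1 : f x.1.1.2 = ρu x.1.1.1 := x.1.2
      have h2 : x.1.1.1 = 1 := x.2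
      rw [h2, map_one] at h1
      have h3 := congrArg Units.val h1
      show (red p n hn).mapMatrix (_ - 1) = 0
      rw [map_sub, map_one, sub_eq_zero]
      exact h3
    · have h1 : x.1.1.2 = y.1.1.2 := Units.ext (sub_left_injective (congrArg Subtype.val e))
      have h2 : x.1.1.1 = y.1.1.1 :=
        (show x.1.1.1 = 1 from x.2).trans (show y.1.1.1 = 1 from y.2).symm
      exact Subtype.ext (Subtype.ext (Prod.ext h2 h1))
    · have hM : (red p n hn).mapMatrix ((M : Matrix ι ι (ZMod (p ^ n))) + 1) = 1 := by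
        rw [map_add, map_one, show (red p n hn).mapMatrix (M : Matrix ι ι (ZMod (p ^ n))) = 0 from
          M.2, zero_add]
      obtain ⟨u, hu⟩ := isUnit_matrix_of_red hn (M := (M : Matrix ι ι (ZMod (p ^ n))) + 1)
        (hM ▸ isUnit_one)
      refine ⟨⟨⟨(1, u), ?_⟩, rfl⟩, Subtype.ext ?_⟩
      · show f u = ρu 1
        rw [map_one]
        exact Units.ext ((congrArg _ hu).trans hM)
      · show (u : Matrix ι ι (ZMod (p ^ n))) - 1 = M
        rw [hu, add_sub_cancel_right]
  have hcop' : (Nat.card π.ker).Coprime π.ker.index := by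
    rw [Subgroup.index_ker, MonoidHom.range_eq_top.2 hπ, Subgroup.card_top, hker]
    refine Nat.Coprime.coprime_dvd_left K.card_addSubgroup_dvd_card ?_
    show (Nat.card (ι → ι → ZMod (p ^ n))).Coprime (Nat.card G)
    rw [Nat.card_fun, Nat.card_fun, Nat.card_zmod, ← pow_mul, ← pow_mul]
    exact hcop.pow_left _
  obtain ⟨C, hC⟩ := Subgroup.exists_right_complement'_of_coprime hcop'
  have hbij : Function.Bijective (π.comp C.subtype) := by
    refine ⟨(injective_iff_map_eq_one _).2 fun c hc => ?_, fun g => ?_⟩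
    · have : (c : Γ) ∈ π.ker ⊓ C := ⟨hc, c.2⟩
      rw [hC.disjoint.eq_bot, Subgroup.mem_bot] at this
      exact Subtype.ext this
    · obtain ⟨x, rfl⟩ := hπ g
      obtain ⟨⟨k, c⟩, hkc⟩ := hC.2 x
      refine ⟨c, ?_⟩
      rw [← hkc]
      simp [show π k = 1 from k.2]
  let sec : G →* Γ := C.subtype.comp (MulEquiv.ofBijective _ hbij).symm.toMonoidHom
  refine ⟨(Units.coeHom _).comp ((MonoidHom.snd _ _).comp (Γ.subtype.comp sec)), fun g => ?_⟩
  have h1 : (sec g).1.1 = g := (MulEquiv.ofBijective _ hbij).apply_symm_apply g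
  have h2 := congrArg Units.val ((sec g).2 : f (sec g).1.2 = ρu (sec g).1.1)
  rw [h1] at h2
  exact h2

/-- The trace of an idempotent is the rank of its reduction. -/
theorem trace_idempotent (hn : n ≠ 0) {P : Matrix ι ι (ZMod (p ^ n))} (hP : P * P = P) :
    Matrix.trace P = (finrank (ZMod p)
      (LinearMap.range (Matrix.toLin' ((red p n hn).mapMatrix P))) : ZMod (p ^ n)) := by
  classical
  set φ := (red p n hn).mapMatrix (m := ι)
  set L := Matrix.toLin' (φ P) with hL
  have hLL : L * L = L := by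
    show L ∘ₗ L = L
    rw [hL, ← Matrix.toLin'_mul, ← map_mul, hP]
  have hc : IsCompl (LinearMap.range L) (LinearMap.ker L) :=
    (LinearMap.IsProj.mk (fun x => ⟨x, rfl⟩) fun x hx => by
      obtain ⟨y, rfl⟩ := hx
      exact DFunLike.congr_fun hLL y : LinearMap.IsProj (LinearMap.range L) L).isCompl
  let b' := ((Module.finBasis (ZMod p) (LinearMap.range L)).prod
    (Module.finBasis (ZMod p) (LinearMap.ker L))).map (Submodule.prodEquivOfIsCompl _ _ hc)
  let e := b'.indexEquiv (Pi.basisFun (ZMod p) ι)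
  let b : Basis ι (ZMod p) (ι → ZMod p) := b'.reindex e
  let s : ι → Bool := fun i => (e.symm i).isLeft
  have hb : ∀ i, L (b i) = if s i then b i else 0 := by
    intro i
    simp only [b, Basis.reindex_apply, s]
    rcases e.symm i with j | j
    · have hm : b' (.inl j) ∈ LinearMap.range L := by
        simp [b']
      obtain ⟨y, hy⟩ := hm
      simp only [Sum.isLeft_inl, if_true]
      rw [← hy]
      exact DFunLike.congr_fun hLL y
    · have hm : b' (.inr j) ∈ LinearMap.ker L := by
        simp [b']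
      simpa using hm
  -- change of basis
  let Q := (Pi.basisFun (ZMod p) ι).toMatrix b
  let Q' := b.toMatrix (Pi.basisFun (ZMod p) ι)
  have hQ : Q' * Q = 1 := Basis.toMatrix_mul_toMatrix_flip _ _
  have hPQ : φ P * Q = Q * Matrix.diagonal (fun i => if s i then 1 else 0) := by
    ext i j
    rw [Matrix.mul_diagonal]
    have h1 : (φ P * Q) i j = L (b j) i := by
      simp [hL, Q, Matrix.mul_apply, Basis.toMatrix_apply, Matrix.toLin'_apply, Matrix.mulVec,
        dotProduct]
    rw [h1, hb]
    split_ifs <;> simp [Q, Basis.toMatrix_apply]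
  obtain ⟨Ql, hQl⟩ := matrix_lift hn Q
  obtain ⟨u, hu⟩ := isUnit_matrix_of_red hn (M := Ql)
    (hQl.symm ▸ ⟨⟨Q, Q', Basis.toMatrix_mul_toMatrix_flip _ _, hQ⟩, rfl⟩)
  have hinv : φ (↑u⁻¹ : Matrix ι ι (ZMod (p ^ n))) = Q' := by
    have h1 : Q * φ (↑u⁻¹ : Matrix ι ι (ZMod (p ^ n))) = 1 := by
      rw [← hQl, ← hu, ← map_mul, Units.mul_inv, map_one]
    exact (left_inv_eq_right_inv hQ h1).symm
  set D : Matrix ι ι (ZMod (p ^ n)) := Matrix.diagonal (fun i => if s i then 1 else 0)
  set P' : Matrix ι ι (ZMod (p ^ n)) := Units.val u⁻¹ * P * Units.val u with hP'def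
  have hDD : D * D = D := by
    simp only [D, Matrix.diagonal_mul_diagonal]
    congr 1
    funext i
    split_ifs <;> simp
  have hP'P' : P' * P' = P' := by
    have h1 : P' * P' = Units.val u⁻¹ * (P * P) * Units.val u := by
      simp only [hP'def, mul_assoc, Units.mul_inv_cancel_left]
    rw [h1, hP]
  have hred : φ P' = φ D := by
    have hD : φ D = Matrix.diagonal (fun i => if s i then 1 else 0) := by
      ext i j
      rw [RingHom.mapMatrix_apply, Matrix.map_apply]
      by_cases hij : i = j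
      · subst hij; simp only [D, Matrix.diagonal_apply_eq]; split_ifs <;> simp
      · simp [D, Matrix.diagonal_apply_ne _ hij]
    rw [hP'def, map_mul, map_mul, hu, hinv, show φ Ql = Q from hQl, mul_assoc, hPQ, ← mul_assoc, hQ,
      one_mul, hD]
  -- two idempotents with the same reduction are conjugate
  set S := P' * D + (1 - P') * (1 - D) with hS
  obtain ⟨v, hv⟩ : IsUnit S := by
    refine isUnit_matrix_of_red hn ?_
    have h1 : φ S = 1 := by
      have h2 : φ D * φ D = φ D := by rw [← map_mul, hDD]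
      simp only [hS, map_add, map_mul, map_sub, map_one, hred]
      calc φ D * φ D + (1 - φ D) * (1 - φ D) = 1 - 2 * φ D + 2 * (φ D * φ D) := by noncomm_ring
        _ = 1 := by rw [h2]; abel
    rw [show (red p n hn).mapMatrix S = 1 from h1]
    exact isUnit_one
  have hconj : P' * S = S * D := by
    have h1 : P' * S = P' * D := by
      rw [hS, mul_add, ← mul_assoc, hP'P', ← mul_assoc, mul_sub P' 1 P', mul_one, hP'P', sub_self,
        zero_mul, add_zero]
    have h2 : S * D = P' * D := by
      rw [hS, add_mul, mul_assoc P' D D, hDD, mul_assoc (1 - P') (1 - D) D, sub_mul 1 D D,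
        one_mul, hDD, sub_self, mul_zero, add_zero]
    rw [h1, h2]
  have htr : Matrix.trace P = Matrix.trace D := by
    have h1 : Matrix.trace P' = Matrix.trace P := Matrix.trace_units_conj' u P
    rw [← h1, show P' = ↑v * D * ↑v⁻¹ by rw [hv, ← hconj, ← hv, mul_assoc, Units.mul_inv, mul_one],
      Matrix.trace_units_conj]
  rw [htr, Matrix.trace_diagonal, Finset.sum_boole]
  congr 1
  let eq : {i // s i = true} ≃ Fin (finrank (ZMod p) (LinearMap.range L)) :=
    (e.symm.subtypeEquiv (q := fun x => x.isLeft = true) fun i => Iff.rfl).trans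
      { toFun := fun x => match x with | ⟨.inl j, _⟩ => j
        invFun := fun j => ⟨.inl j, rfl⟩
        left_inv := fun x => by
          rcases x with ⟨j | j, h⟩
          · rfl
          · exact absurd h (by simp)
        right_inv := fun j => rfl }
  rw [← Fintype.card_subtype, Fintype.card_congr eq, Fintype.card_fin]

/-- The fixed space of a subgroup. -/
def fixedSpace {k G V : Type*} [Semiring k] [Group G] [AddCommMonoid V] [Module k V]
    (ρ : G →* Module.End k V) (A : Subgroup G) : Submodule k V :=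
  ⨅ a ∈ A, LinearMap.eqLocus (ρ a) LinearMap.id

theorem mem_fixedSpace {k G V : Type*} [Semiring k] [Group G] [AddCommMonoid V] [Module k V]
    {ρ : G →* Module.End k V} {A : Subgroup G} {v : V} :
    v ∈ fixedSpace ρ A ↔ ∀ a ∈ A, ρ a v = v := by
  simp [fixedSpace]

variable {G : Type*} [Group G] [Fintype G]

/-- Sums over the conjugates of a malnormal complement of a normal subgroup. -/
theorem sum_frobenius {R : Type*} [AddCommGroup R] (U E : Subgroup G) [U.Normal] [Fintype U]
    [Fintype E] (hc : Subgroup.IsComplement' U E)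
    (hfpf : ∀ b ∈ E, b ≠ 1 → ∀ x ∈ U, b * x = x * b → x = 1) (F : G → R)
    (hF : ∀ x g, F (x * g * x⁻¹) = F g) :
    ∑ g : G, F g + Fintype.card U • F 1 = ∑ x : U, F x + Fintype.card U • ∑ b : E, F b := by
  classical
  let T : U × {b : E // b ≠ 1} → {g : G // g ∉ U} := fun z =>
    ⟨(z.1 : G) * ((z.2.1 : E) : G) * (z.1 : G)⁻¹, fun h => z.2.2 (by
      have h1 := (inferInstance : U.Normal).conj_mem _ h (z.1 : G)⁻¹
      have h2 : ((z.2.1 : E) : G) ∈ U ⊓ E := ⟨by simpa [mul_assoc] using h1, z.2.1.2⟩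
      rw [hc.disjoint.eq_bot, Subgroup.mem_bot] at h2
      exact Subtype.ext h2)⟩
  have hinj : Function.Injective T := by
    rintro ⟨x, b, hb⟩ ⟨y, c, hc'⟩ e
    have e1 : (x : G) * b * (x : G)⁻¹ = y * c * (y : G)⁻¹ := congrArg Subtype.val e
    set z := (y : G)⁻¹ * x with hz
    have hzU : z ∈ U := U.mul_mem (U.inv_mem y.2) x.2
    have e2 : z * b * z⁻¹ = c := by
      calc z * b * z⁻¹ = (y : G)⁻¹ * ((x : G) * b * (x : G)⁻¹) * y := by simp [hz, mul_assoc]
        _ = c := by rw [e1]; simp [mul_assoc]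
    have hbc : (b : G) = c := by
      have h1 : z * ((b : G) * z⁻¹ * (b : G)⁻¹) ∈ U :=
        U.mul_mem hzU ((inferInstance : U.Normal).conj_mem _ (U.inv_mem hzU) b)
      have h2 : (c : G) * (b : G)⁻¹ ∈ U ⊓ E :=
        ⟨by rw [← e2]; simpa [mul_assoc] using h1, E.mul_mem c.2 (E.inv_mem b.2)⟩
      rw [hc.disjoint.eq_bot, Subgroup.mem_bot, mul_inv_eq_one] at h2
      exact h2.symm
    rw [← hbc] at e2
    have hz1 := hfpf b b.2 (fun h => hb (Subtype.ext h)) z hzU
      (mul_inv_eq_iff_eq_mul.1 e2).symm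
    rw [hz, inv_mul_eq_one] at hz1
    exact Prod.ext (Subtype.ext hz1.symm) (Subtype.ext (Subtype.ext hbc))
  have hbij : Function.Bijective T := by
    rw [Fintype.bijective_iff_injective_and_card]
    refine ⟨hinj, ?_⟩
    have h1 := hc.card_mul
    rw [Nat.card_eq_fintype_card, Nat.card_eq_fintype_card, Nat.card_eq_fintype_card] at h1
    rw [Fintype.card_prod, Fintype.card_subtype_compl, Fintype.card_subtype_eq,
      Fintype.card_subtype_compl, ← h1, Nat.mul_sub, mul_one]
  have hout : ∑ g : {g : G // g ∉ U}, F g = Fintype.card U • ∑ b : {b : E // b ≠ 1}, F (b.1 : G) := by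
    rw [← Fintype.sum_bijective T hbij (fun z => F ((z.2.1 : E) : G)) (fun g => F g)
      fun z => (hF _ _).symm, Fintype.sum_prod_type]
    simp only [Finset.sum_const, Finset.card_univ]
  have hG : ∑ g : G, F g = ∑ x : U, F x + ∑ g : {g : G // g ∉ U}, F g := by
    convert (Fintype.sum_subtype_add_sum_subtype (fun g : G => g ∈ U) F).symm using 3
    exact Finset.ext fun x => by simp
  have hE : ∑ b : E, F b = F 1 + ∑ b : {b : E // b ≠ 1}, F (b.1 : G) := by
    rw [← Finset.add_sum_erase _ _ (Finset.mem_univ (1 : E))]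
    congr 1
    exact Finset.sum_subtype (Finset.univ.erase (1 : E)) (by simp) (fun b : E => F b)
  rw [hG, hout, hE, smul_add]
  abel

omit [Fintype G] in
/-- The trace sum over a subgroup is its order times the dimension of its fixed space. -/
theorem sum_trace (hn : n ≠ 0) (ρ : G →* Module.End (ZMod p) (ι → ZMod p))
    (τ : G →* Matrix ι ι (ZMod (p ^ n)))
    (hτ : ∀ g, Matrix.toLin' ((red p n hn).mapMatrix (τ g)) = ρ g) (A : Subgroup G) [Fintype A]
    (hA : ¬ p ∣ Fintype.card A) :
    ∑ a : A, Matrix.trace (τ a) =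
      ((Fintype.card A * finrank (ZMod p) (fixedSpace ρ A) : ℕ) : ZMod (p ^ n)) := by
  have hred : red p n hn (Fintype.card A : ZMod (p ^ n)) ≠ 0 := by
    rw [map_natCast, Ne, ZMod.natCast_eq_zero_iff]; exact hA
  obtain ⟨u, hu⟩ := isUnit_of_red hn hred
  set S := ∑ a : A, τ a
  have hSS : S * S = (Fintype.card A : ZMod (p ^ n)) • S := by
    simp only [S, Finset.sum_mul, Finset.mul_sum, ← map_mul]
    rw [Finset.sum_comm, Finset.sum_congr rfl fun (a : A) _ => show ∑ b : A, τ ((a : G) * b) = S from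
      Fintype.sum_equiv (Equiv.mulLeft a) _ _ fun b => rfl, Finset.sum_const, Finset.card_univ,
      Nat.cast_smul_eq_nsmul]
  set P := (↑u⁻¹ : ZMod (p ^ n)) • S with hPdef
  have hP : P * P = P := by
    rw [hPdef, smul_mul_smul_comm, hSS, smul_smul, ← hu, mul_assoc, Units.inv_mul, mul_one]
  have hL : Matrix.toLin' ((red p n hn).mapMatrix P) =
      red p n hn ↑u⁻¹ • ∑ a : A, ρ a := by
    have h1 : (red p n hn).mapMatrix P = red p n hn ↑u⁻¹ • (red p n hn).mapMatrix S := by
      ext i j; simp [hPdef]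
    rw [h1, map_smul, map_sum, map_sum]
    simp only [hτ]
  have hrange : LinearMap.range (Matrix.toLin' ((red p n hn).mapMatrix P)) = fixedSpace ρ A := by
    apply le_antisymm
    · rintro _ ⟨v, rfl⟩
      rw [mem_fixedSpace]
      intro a ha
      simp only [hL, LinearMap.smul_apply, LinearMap.sum_apply, map_smul, map_sum]
      congr 1
      exact Fintype.sum_equiv (Equiv.mulLeft ⟨a, ha⟩) _ _ fun b => by
        rw [← Module.End.mul_apply, ← map_mul]; rfl
    · intro v hv
      refine ⟨v, ?_⟩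
      rw [mem_fixedSpace] at hv
      simp only [hL, LinearMap.smul_apply, LinearMap.sum_apply]
      rw [Finset.sum_congr rfl fun (a : A) _ => hv a a.2, Finset.sum_const, Finset.card_univ,
        ← Nat.cast_smul_eq_nsmul (ZMod p), smul_smul, ← map_natCast (red p n hn), ← map_mul, ← hu,
        Units.inv_mul, map_one, one_smul]
  have h2 := trace_idempotent hn hP
  rw [hrange, hPdef, Matrix.trace_smul, Matrix.trace_sum, smul_eq_mul] at h2
  rw [Nat.cast_mul, ← h2, ← hu, ← mul_assoc, Units.mul_inv, one_mul]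

/-- **The dimension formula.** -/
theorem finrank_formula {V : Type*} [AddCommGroup V] [Module (ZMod p) V] [Finite V]
    (U E : Subgroup G) [U.Normal] (hc : Subgroup.IsComplement' U E)
    (hfpf : ∀ b ∈ E, b ≠ 1 → ∀ x ∈ U, b * x = x * b → x = 1) (hp' : ¬ p ∣ Nat.card G)
    (σ : G →* Module.End (ZMod p) V) :
    Nat.card E * finrank (ZMod p) (fixedSpace σ ⊤) + finrank (ZMod p) V =
      Nat.card E * finrank (ZMod p) (fixedSpace σ E) + finrank (ZMod p) (fixedSpace σ U) := by
  classical
  have := Fintype.ofFinite V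
  have := Fintype.ofFinite U
  have := Fintype.ofFinite E
  have := Fintype.ofFinite (⊤ : Subgroup G)
  set d := finrank (ZMod p) V
  let c : V ≃ₗ[ZMod p] (Fin d → ZMod p) := (Module.finBasis (ZMod p) V).equivFun
  let ρ : G →* Module.End (ZMod p) (Fin d → ZMod p) := (c.conjAlgEquiv (ZMod p)).toAlgHom.toMonoidHom.comp σ
  have hρ : ∀ g v, ρ g v = c (σ g (c.symm v)) := fun g v => rfl
  have hfix : ∀ A : Subgroup G,
      finrank (ZMod p) (fixedSpace ρ A) = finrank (ZMod p) (fixedSpace σ A) := fun A => by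
    have : fixedSpace ρ A = (fixedSpace σ A).map (c : V →ₗ[ZMod p] (Fin d → ZMod p)) := by
      ext v
      simp only [Submodule.mem_map, mem_fixedSpace]
      refine ⟨fun h => ⟨c.symm v, fun a ha => c.injective ?_, c.apply_symm_apply v⟩, ?_⟩
      · have h1 := h a ha
        rw [hρ] at h1
        rw [h1, c.apply_symm_apply]
      · rintro ⟨w, hw, rfl⟩ a ha
        rw [hρ]
        simp [hw a ha]
    rw [this, LinearEquiv.finrank_map_eq]
  set N := Nat.card E * d + d + 1 with hN
  have hN0 : N ≠ 0 := by omega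
  have hcop : p.Coprime (Nat.card G) := hp.out.coprime_iff_not_dvd.2 hp'
  obtain ⟨τ, hτ⟩ := exists_lift (p := p) hN0 hcop
    (LinearMap.toMatrixAlgEquiv'.toAlgHom.toMonoidHom.comp ρ)
  have hτ' : ∀ g, Matrix.toLin' ((red p N hN0).mapMatrix (τ g)) = ρ g := fun g => by
    rw [hτ g]; exact Matrix.toLin'_toMatrix' (ρ g)
  have hdvd : ∀ A : Subgroup G, ∀ [Fintype A], ¬ p ∣ Fintype.card A := fun A _ h =>
    hp' (h.trans (Nat.card_eq_fintype_card (α := A) ▸ A.card_subgroup_dvd_card))
  have key := sum_frobenius U E hc hfpf (fun g => Matrix.trace (τ g)) (fun x g => by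
    rw [map_mul, map_mul, mul_assoc, Matrix.trace_mul_comm, mul_assoc, ← map_mul, inv_mul_cancel,
      map_one, mul_one])
  have hone : Matrix.trace (τ 1) = (d : ZMod (p ^ N)) := by simp
  have htop : ∑ g : G, Matrix.trace (τ g) =
      ((Fintype.card G * finrank (ZMod p) (fixedSpace σ ⊤) : ℕ) : ZMod (p ^ N)) := by
    have h1 := sum_trace hN0 ρ τ hτ' ⊤ (hdvd ⊤)
    rw [hfix, Fintype.card_congr Subgroup.topEquiv.toEquiv] at h1
    rw [← h1]
    exact (Fintype.sum_equiv Subgroup.topEquiv.toEquiv _ _ fun a => rfl).symm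
  rw [htop, sum_trace hN0 ρ τ hτ' U (hdvd U), sum_trace hN0 ρ τ hτ' E (hdvd E), hfix, hfix, hone,
    nsmul_eq_mul, nsmul_eq_mul] at key
  have hUE : Fintype.card G = Fintype.card U * Fintype.card E := by
    have h1 := hc.card_mul
    rw [Nat.card_eq_fintype_card, Nat.card_eq_fintype_card, Nat.card_eq_fintype_card] at h1
    exact h1.symm
  rw [hUE] at key
  push_cast at key
  have hu : IsUnit (Fintype.card U : ZMod (p ^ N)) := isUnit_of_red hN0 (by
    rw [map_natCast, Ne, ZMod.natCast_eq_zero_iff]; exact hdvd U)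
  set a := finrank (ZMod p) (fixedSpace σ ⊤)
  set b := finrank (ZMod p) (fixedSpace σ E)
  set c' := finrank (ZMod p) (fixedSpace σ U)
  have h2 : ((Nat.card E * a + d : ℕ) : ZMod (p ^ N)) = ((Nat.card E * b + c' : ℕ) : ZMod (p ^ N)) := by
    refine hu.mul_left_cancel ?_
    push_cast
    rw [Nat.card_eq_fintype_card]
    linear_combination key
  rw [ZMod.natCast_eq_natCast_iff'] at h2
  have hlt : N < p ^ N := Nat.lt_pow_self hp.out.one_lt
  have hab : ∀ A : Subgroup G, finrank (ZMod p) (fixedSpace σ A) ≤ d := fun A => Submodule.finrank_le _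
  have ha : Nat.card E * a ≤ Nat.card E * d := Nat.mul_le_mul_left _ (hab ⊤)
  have hb : Nat.card E * b ≤ Nat.card E * d := Nat.mul_le_mul_left _ (hab E)
  have hc' : c' ≤ d := hab U
  rwa [Nat.mod_eq_of_lt (by omega), Nat.mod_eq_of_lt (by omega)] at h2

end Cfsg.Agent.WielandtFixed
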