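import Mathlib
import Cfsg.Agent.WielandtFixed.Linear
import Cfsg.Agent.Coprime.Basic

/-!
# Wielandt's order formula for a Frobenius group acting coprimely

Induction on the order of the group acted on: an invariant elementary abelian subgroup gives a
representation over `ZMod p`, where the dimension formula applies, and fixed points of coprime
action pass to quotients.
-/

namespace Cfsg.Agent.WielandtFixed

open Subgroup Module

universe u

variable {X : Type u} [Group X] [Finite X]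

/-- Number of fixed points. -/
noncomputable def fixCard (H A : Subgroup X) : ℕ :=
  Nat.card ↥(H ⊓ centralizer (A : Set X))

theorem card_map_mul_card_inf_ker {Y : Type*} [Group Y] (f : X →* Y) (K : Subgroup X) :
    Nat.card ↥(K ⊓ f.ker) * Nat.card (K.map f) = Nat.card K := by
  have h1 := (f.domRestrict K).ker.card_mul_index
  rw [Subgroup.index_ker, MonoidHom.domRestrict_range, MonoidHom.ker_domRestrict] at h1
  have h2 : Nat.card (f.ker.subgroupOf K) = Nat.card ↥(K ⊓ f.ker) :=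
    Nat.card_congr
      { toFun := fun x => ⟨x.1.1, x.1.2, x.2⟩
        invFun := fun x => ⟨⟨x.1, x.2.1⟩, x.2.2⟩
        left_inv := fun x => rfl
        right_inv := fun x => rfl }
  rwa [h2] at h1

theorem fixCard_quotient {V H A : Subgroup X} [V.Normal] (hVH : V ≤ H)
    (hAH : A ≤ normalizer (H : Set X)) (hcop : (Nat.card A).Coprime (Nat.card V))
    (hsolv : Group.IsSolvable V) :
    fixCard H A = fixCard V A *
      fixCard (H.map (QuotientGroup.mk' V)) (A.map (QuotientGroup.mk' V)) := by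
  have hk := QuotientGroup.ker_mk' V
  have h1 := Coprime.map_inf_centralizer (QuotientGroup.mk' V) (A := A) (K := H) hAH
    (hk.le.trans hVH) (by rwa [hk]) (Or.inr (by rw [hk]; exact hsolv))
  have h2 := card_map_mul_card_inf_ker (QuotientGroup.mk' V) (H ⊓ centralizer (A : Set X))
  rw [h1, hk] at h2
  have h3 : H ⊓ centralizer (A : Set X) ⊓ V = V ⊓ centralizer (A : Set X) := by
    rw [inf_right_comm, inf_eq_right.2 hVH]
  rw [h3] at h2
  exact h2.symm

omit [Finite X] in
theorem fixCard_subgroupOf {Y H A : Subgroup X} (hH : H ≤ Y) (hA : A ≤ Y) :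
    fixCard (H.subgroupOf Y) (A.subgroupOf Y) = fixCard H A :=
  Nat.card_congr
    { toFun := fun x => ⟨x.1.1, x.2.1, fun a ha => congrArg Subtype.val
        (x.2.2 ⟨a, hA ha⟩ ha)⟩
      invFun := fun x => ⟨⟨x.1, hH x.2.1⟩, x.2.1, fun a ha => Subtype.ext (x.2.2 a ha)⟩
      left_inv := fun x => rfl
      right_inv := fun x => rfl }

/-- A nontrivial solvable subgroup contains a nontrivial elementary abelian subgroup
invariant under whatever normalises it. -/
theorem exists_invariant_elementary (H : Subgroup X) (hH : H ≠ ⊥)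
    (hsolv : Group.IsSolvable H) :
    ∃ (p : ℕ) (V : Subgroup X), p.Prime ∧ V ≤ H ∧ V ≠ ⊥ ∧
      (∀ a ∈ V, ∀ b ∈ V, a * b = b * a) ∧ (∀ a ∈ V, a ^ p = 1) ∧
      normalizer (H : Set X) ≤ normalizer (V : Set X) := by
  classical
  let D : ℕ → Subgroup X := fun n => (derivedSeries H n).map H.subtype
  have hD0 : D 0 = H := by
    simp only [D, derivedSeries_zero, ← MonoidHom.range_eq_map, Subgroup.range_subtype]
  have hDs : ∀ n, D (n + 1) = ⁅D n, D n⁆ := fun n => by
    simp only [D, derivedSeries_succ, Subgroup.map_commutator]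
  have hinv : ∀ n, ∀ g ∈ normalizer (H : Set X), (D n).map (MulAut.conj g).toMonoidHom = D n := by
    intro n
    induction n with
    | zero =>
      intro g hg
      rw [hD0]
      ext x
      constructor
      · rintro ⟨y, hy, rfl⟩
        exact (mem_normalizer_iff.1 hg y).1 hy
      · intro hx
        refine ⟨g⁻¹ * x * g, (mem_normalizer_iff.1 hg _).2 ?_, ?_⟩ <;> simp [mul_assoc, hx]
    | succ n ih =>
      intro g hg
      rw [hDs, Subgroup.map_commutator, ih g hg]
  obtain ⟨N, hN⟩ := (isSolvable_def _).1 hsolv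
  have hex : ∃ n, D n = ⊥ := ⟨N, by simp [D, hN]⟩
  set m := Nat.find hex
  have hm0 : m ≠ 0 := fun h => hH (by rw [← hD0, ← h]; exact Nat.find_spec hex)
  obtain ⟨k, hk⟩ := Nat.exists_eq_succ_of_ne_zero hm0
  have hDk : D k ≠ ⊥ := Nat.find_min hex (show k < m by omega)
  have hab : ∀ a ∈ D k, ∀ b ∈ D k, a * b = b * a := by
    have h1 : ⁅D k, D k⁆ = ⊥ := by rw [← hDs, show k + 1 = m by omega]; exact Nat.find_spec hex
    intro a ha b hb
    rw [← commutatorElement_eq_one_iff_mul_comm, ← Subgroup.mem_bot, ← h1]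
    exact commutator_mem_commutator ha hb
  have hDH : D k ≤ H := map_subtype_le _
  obtain ⟨p, hp, hpd⟩ := Nat.exists_prime_and_dvd (n := Nat.card (D k))
    (fun h => hDk ((D k).card_eq_one.1 h))
  have : Fact p.Prime := ⟨hp⟩
  let V : Subgroup X :=
    { carrier := {x | x ∈ D k ∧ x ^ p = 1}
      one_mem' := ⟨(D k).one_mem, one_pow _⟩
      mul_mem' := fun {a b} ha hb => ⟨(D k).mul_mem ha.1 hb.1, by
        rw [(show Commute a b from hab a ha.1 b hb.1).mul_pow, ha.2, hb.2, one_mul]⟩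
      inv_mem' := fun {a} ha => ⟨(D k).inv_mem ha.1, by rw [inv_pow, ha.2, inv_one]⟩ }
  refine ⟨p, V, hp, fun x hx => hDH hx.1, ?_, fun a ha b hb => hab a ha.1 b hb.1,
    fun a ha => ha.2, ?_⟩
  · obtain ⟨x, hx⟩ := exists_prime_orderOf_dvd_card' p hpd
    intro h
    have h1 : (x : X) ∈ V := ⟨x.2, by
      rw [← SubmonoidClass.coe_pow, ← hx, pow_orderOf_eq_one]; rfl⟩
    rw [h, Subgroup.mem_bot, OneMemClass.coe_eq_one] at h1
    rw [h1, orderOf_one] at hx
    exact hp.ne_one hx.symm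
  · intro g hg
    have hg' : ∀ g' ∈ normalizer (H : Set X), ∀ x ∈ V, g' * x * g'⁻¹ ∈ V := by
      intro g' hg' x hx
      refine ⟨?_, by rw [conj_pow, hx.2, mul_one, mul_inv_cancel]⟩
      rw [← hinv k g' hg']
      exact ⟨x, hx.1, rfl⟩
    rw [mem_normalizer_iff]
    refine fun x => ⟨hg' g hg x, fun hx => ?_⟩
    have := hg' g⁻¹ (inv_mem hg) _ hx
    simpa [mul_assoc] using this

/-- The formula for a group written as a vector space over `ZMod p`. -/
theorem formula_module {p : ℕ} [Fact p.Prime] {W : Type*} [AddCommGroup W] [Module (ZMod p) W]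
    [Finite W] (ι : W → X) (hinj : Function.Injective ι) (hadd : ∀ v w, ι (v + w) = ι v * ι w)
    (U E V : Subgroup X) (hV : ∀ x, x ∈ V ↔ ∃ w, ι w = x) (hUE : U ⊓ E = ⊥)
    (hUn : ∀ e ∈ E, ∀ u ∈ U, e * u * e⁻¹ ∈ U)
    (hfpf : ∀ e ∈ E, e ≠ 1 → ∀ u ∈ U, e * u = u * e → u = 1)
    (hnorm : ∀ x ∈ U ⊔ E, ∀ v ∈ V, x * v * x⁻¹ ∈ V)
    (hp : ¬ p ∣ Nat.card ↥(U ⊔ E)) :
    fixCard V (U ⊔ E) ^ Nat.card E * Nat.card V = fixCard V E ^ Nat.card E * fixCard V U := by
  classical
  set G := (U ⊔ E : Subgroup X)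
  letI := Fintype.ofFinite G
  choose f hf using fun (g : G) (w : W) =>
    (hV _).1 (hnorm g g.2 _ ((hV (ι w)).2 ⟨w, rfl⟩))
  let σ : G →* Module.End (ZMod p) W :=
    { toFun := fun g => AddMonoidHom.toZModLinearMap p (AddMonoidHom.mk' (f g) fun v w => hinj (by
        simp only [hadd, hf, mul_assoc, inv_mul_cancel_left]))
      map_one' := LinearMap.ext fun v => hinj (by
        show ι (f 1 v) = ι v
        simp [hf])
      map_mul' := fun g h => LinearMap.ext fun v => hinj (by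
        show ι (f (g * h) v) = ι (f g (f h v))
        simp [hf, mul_assoc]) }
  have hσ : ∀ g w, σ g w = f g w := fun g w => rfl
  let eV : W ≃ V := Equiv.ofBijective (fun w => ⟨ι w, (hV _).2 ⟨w, rfl⟩⟩)
    ⟨fun v w e => hinj (congrArg Subtype.val e),
      fun x => ((hV x).1 x.2).imp fun w hw => Subtype.ext hw⟩
  have hfix : ∀ A : Subgroup X, A ≤ G →
      fixCard V A = p ^ finrank (ZMod p) (fixedSpace σ (A.subgroupOf G)) := by
    intro A hA
    have h0 : ∀ w : W, w ∈ fixedSpace σ (A.subgroupOf G) ↔ ∀ a ∈ A, a * ι w = ι w * a := by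
      intro w
      rw [mem_fixedSpace]
      constructor
      · intro h a ha
        have h2 := congrArg ι (h ⟨a, hA ha⟩ ha)
        rw [hσ, hf] at h2
        exact mul_inv_eq_iff_eq_mul.1 h2
      · intro h a ha
        apply hinj
        rw [hσ, hf]
        exact mul_inv_eq_iff_eq_mul.2 (h a ha)
    have h1 : Nat.card (fixedSpace σ (A.subgroupOf G)) = fixCard V A := by
      refine Nat.card_eq_of_bijective
        (fun w => ⟨ι w.1, (hV _).2 ⟨_, rfl⟩, fun a ha => (h0 w.1).1 w.2 a ha⟩)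
        ⟨fun v w e => Subtype.ext (hinj (congrArg Subtype.val e)), ?_⟩
      rintro ⟨x, hx, hxA⟩
      obtain ⟨w, rfl⟩ := (hV x).1 hx
      exact ⟨⟨w, (h0 w).2 fun a ha => hxA a ha⟩, rfl⟩
    rw [← h1, Module.natCard_eq_pow_finrank (K := ZMod p), Nat.card_zmod]
  have hUG : U ≤ G := le_sup_left
  have hEG : E ≤ G := le_sup_right
  have hUnorm : (U.subgroupOf G).Normal := by
    rw [normal_subgroupOf_iff_le_normalizer hUG]
    refine sup_le le_normalizer fun e he => ?_
    rw [mem_normalizer_iff]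
    refine fun u => ⟨hUn e he u, fun h => ?_⟩
    have := hUn e⁻¹ (inv_mem he) _ h
    simpa [mul_assoc] using this
  have hc : (U.subgroupOf G).IsComplement' (E.subgroupOf G) := by
    refine isComplement'_of_disjoint_and_mul_eq_univ ?_ ?_
    · rw [disjoint_iff, ← bot_subgroupOf G, ← hUE]
      rfl
    · rw [← Subgroup.normal_mul, ← subgroupOf_sup hUG hEG, subgroupOf_self, coe_top]
  have key := finrank_formula (U.subgroupOf G) (E.subgroupOf G) hc
    (fun b hb hb1 x hx h => Subtype.ext (hfpf b hb (fun hh => hb1 (Subtype.ext hh)) x hx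
      (congrArg Subtype.val h))) hp σ
  have hW : Nat.card V = p ^ finrank (ZMod p) W := by
    rw [← Nat.card_congr eV, Module.natCard_eq_pow_finrank (K := ZMod p), Nat.card_zmod]
  have hE : Nat.card (E.subgroupOf G) = Nat.card E :=
    Nat.card_congr (subgroupOfEquivOfLe hEG).toEquiv
  rw [hE, ← subgroupOf_self G] at key
  rw [hfix G le_rfl, hfix E hEG, hfix U hUG, hW, ← pow_mul, ← pow_mul, ← pow_add, ← pow_add,
    mul_comm _ (Nat.card E), mul_comm _ (Nat.card E), key]

/-- The formula for an elementary abelian group. -/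
theorem formula_elementary {p : ℕ} [Fact p.Prime] (U E V : Subgroup X) (hUE : U ⊓ E = ⊥)
    (hUn : ∀ e ∈ E, ∀ u ∈ U, e * u * e⁻¹ ∈ U)
    (hfpf : ∀ e ∈ E, e ≠ 1 → ∀ u ∈ U, e * u = u * e → u = 1)
    (hnorm : ∀ x ∈ U ⊔ E, ∀ v ∈ V, x * v * x⁻¹ ∈ V)
    (hab : ∀ a ∈ V, ∀ b ∈ V, a * b = b * a) (hexp : ∀ a ∈ V, a ^ p = 1)
    (hp : ¬ p ∣ Nat.card ↥(U ⊔ E)) :
    fixCard V (U ⊔ E) ^ Nat.card E * Nat.card V = fixCard V E ^ Nat.card E * fixCard V U := by
  letI : CommGroup V :=
    { (inferInstance : Group V) with mul_comm := fun a b => Subtype.ext (hab a a.2 b b.2) }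
  have hn : ∀ x : Additive V, p • x = 0 := fun x => Additive.toMul.injective
    (Subtype.ext ((SubmonoidClass.coe_pow (Additive.toMul x) p).trans
      (hexp _ (Additive.toMul x).2)))
  letI := AddCommGroup.zmodModule (n := p) hn
  have : Finite (Additive V) := Finite.of_equiv V Additive.ofMul
  exact formula_module (fun w : Additive V => ((Additive.toMul w : V) : X))
    (Subtype.val_injective.comp Additive.toMul.injective) (fun v w => rfl) U E V
    (fun x => ⟨fun hx => ⟨Additive.ofMul ⟨x, hx⟩, rfl⟩, fun ⟨w, hw⟩ => hw ▸ (Additive.toMul w).2⟩)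
    hUE hUn hfpf hnorm hp

omit [Finite X] in
theorem fixCard_bot (A : Subgroup X) : fixCard ⊥ A = 1 := by
  rw [fixCard, bot_inf_eq, card_bot]

/-- **Wielandt's order formula.** -/
theorem order_formula : ∀ (n : ℕ) (X : Type u) [Group X] [Finite X] (U E H : Subgroup X),
    Nat.card H = n → U ⊓ E = ⊥ → (∀ e ∈ E, ∀ u ∈ U, e * u * e⁻¹ ∈ U) →
    (∀ e ∈ E, e ≠ 1 → ∀ u ∈ U, e * u = u * e → u = 1) →
    (∀ x ∈ U ⊔ E, ∀ h ∈ H, x * h * x⁻¹ ∈ H) → Group.IsSolvable H →
    Nat.Coprime (Nat.card H) (Nat.card ↥(U ⊔ E)) →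
    fixCard H (U ⊔ E) ^ Nat.card E * Nat.card H = fixCard H E ^ Nat.card E * fixCard H U := by
  intro n
  induction n using Nat.strong_induction_on with
  | _ n ih =>
  intro X _ _ U E H hn hUE hUn hfpf hHn hsolv hcop
  by_cases hH : H = ⊥
  · subst hH
    simp [fixCard_bot]
  obtain ⟨p, V, hp, hVH, hV1, hab, hexp, hVnorm⟩ := exists_invariant_elementary H hH hsolv
  have : Fact p.Prime := ⟨hp⟩
  have hGnH : U ⊔ E ≤ normalizer (H : Set X) := fun x hx => by
    rw [mem_normalizer_iff]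
    refine fun h => ⟨hHn x hx h, fun h' => ?_⟩
    have := hHn x⁻¹ (inv_mem hx) _ h'
    simpa [mul_assoc] using this
  -- restrict to a subgroup where `V` is normal
  set Y : Subgroup X := H ⊔ (U ⊔ E)
  have hHY : H ≤ Y := le_sup_left
  have hGY : U ⊔ E ≤ Y := le_sup_right
  have hUY : U ≤ Y := le_sup_left.trans hGY
  have hEY : E ≤ Y := le_sup_right.trans hGY
  have hYV : Y ≤ normalizer (V : Set X) := (sup_le le_normalizer hGnH).trans hVnorm
  have hVY : V ≤ Y := hVH.trans hHY
  have hVn : (V.subgroupOf Y).Normal := (normal_subgroupOf_iff_le_normalizer hVY).2 hYV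
  set f := QuotientGroup.mk' (V.subgroupOf Y) with hf
  set U' := (U.subgroupOf Y).map f
  set E' := (E.subgroupOf Y).map f
  set H' := (H.subgroupOf Y).map f
  have hG' : U' ⊔ E' = ((U ⊔ E).subgroupOf Y).map f := by
    rw [subgroupOf_sup hUY hEY, Subgroup.map_sup]
  have hdisj : H ⊓ (U ⊔ E) = ⊥ := inf_eq_bot_of_coprime hcop
  have hinj : ∀ y : Y, f y = 1 → (y : X) ∈ U ⊔ E → y = 1 := fun y hy hyG => by
    have h1 : (y : X) ∈ H ⊓ (U ⊔ E) := ⟨hVH ((QuotientGroup.eq_one_iff y).1 hy), hyG⟩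
    rw [hdisj, Subgroup.mem_bot] at h1
    exact Subtype.ext h1
  have hinj2 : ∀ a b : Y, (a : X) ∈ U ⊔ E → (b : X) ∈ U ⊔ E → f a = f b → a = b :=
    fun a b ha hb e => mul_inv_eq_one.1 (hinj _ (by rw [map_mul, map_inv, e, mul_inv_cancel])
      (mul_mem ha (inv_mem hb)))
  have hcardmap : ∀ A : Subgroup X, A ≤ U ⊔ E → Nat.card ((A.subgroupOf Y).map f) = Nat.card A := by
    intro A hA
    have h1 := card_map_mul_card_inf_ker f (A.subgroupOf Y)
    have h2 : A.subgroupOf Y ⊓ f.ker = ⊥ := by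
      rw [eq_bot_iff]
      rintro y ⟨hy1, hy2⟩
      exact hinj y hy2 (hA hy1)
    rw [h2, card_bot, one_mul] at h1
    rw [h1, Nat.card_congr (subgroupOfEquivOfLe (hA.trans hGY)).toEquiv]
  have hVH' := card_map_mul_card_inf_ker f (H.subgroupOf Y)
  rw [QuotientGroup.ker_mk', show H.subgroupOf Y ⊓ V.subgroupOf Y = V.subgroupOf Y from
      inf_eq_right.2 fun y hy => hVH hy,
    Nat.card_congr (subgroupOfEquivOfLe hVY).toEquiv,
    Nat.card_congr (subgroupOfEquivOfLe hHY).toEquiv] at hVH'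
  change Nat.card V * Nat.card H' = Nat.card H at hVH'
  have hV2 : 1 < Nat.card V := (one_lt_card_iff_ne_bot V).2 hV1
  have hlt : Nat.card H' < n := by
    rw [← hn, ← hVH']
    exact lt_mul_left Nat.card_pos hV2
  have hH'card : Nat.card H' ∣ Nat.card H := hVH' ▸ dvd_mul_left _ _
  have key := ih _ hlt (Y ⧸ V.subgroupOf Y) U' E' H' rfl
    (by
      rw [eq_bot_iff]
      rintro _ ⟨⟨u, hu, rfl⟩, e, he, he'⟩
      have h1 := hinj2 e u (mem_sup_right he) (mem_sup_left hu) he'
      have h2 : (u : X) ∈ U ⊓ E := ⟨hu, h1 ▸ he⟩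
      rw [hUE, Subgroup.mem_bot, OneMemClass.coe_eq_one] at h2
      rw [Subgroup.mem_bot, h2, map_one])
    (by
      rintro _ ⟨e, he, rfl⟩ _ ⟨u, hu, rfl⟩
      exact ⟨e * u * e⁻¹, hUn e he u hu, by simp [map_mul]⟩)
    (by
      rintro _ ⟨e, he, rfl⟩ he1 _ ⟨u, hu, rfl⟩ h
      rw [← map_mul, ← map_mul] at h
      have h1 := hinj2 (e * u) (u * e)
        ((U ⊔ E).mul_mem (mem_sup_right (show (e : X) ∈ E from he))
          (mem_sup_left (show (u : X) ∈ U from hu)))
        ((U ⊔ E).mul_mem (mem_sup_left (show (u : X) ∈ U from hu))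
          (mem_sup_right (show (e : X) ∈ E from he))) h
      have h2 := hfpf e he (fun hh => he1 (by rw [OneMemClass.coe_eq_one.1 hh, map_one])) u hu
        (congrArg Subtype.val h1)
      rw [OneMemClass.coe_eq_one.1 h2, map_one])
    (by
      intro x hx h hh
      rw [hG'] at hx
      obtain ⟨a, ha, rfl⟩ := hx
      obtain ⟨b, hb, rfl⟩ := hh
      exact ⟨a * b * a⁻¹, hHn a ha b hb, by simp [map_mul]⟩)
    (by
      have : Group.IsSolvable (H.subgroupOf Y) := Group.isSolvable_of_isSolvable_injective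
        (f := (subgroupOfEquivOfLe hHY).toMonoidHom) (MulEquiv.injective _)
      exact Group.isSolvable_of_surjective (MonoidHom.subgroupMap_surjective f _))
    (by rw [hG', hcardmap _ le_rfl]; exact hcop.coprime_dvd_left hH'card)
  have hstep : ∀ A : Subgroup X, A ≤ U ⊔ E →
      fixCard H A = fixCard V A * fixCard H' ((A.subgroupOf Y).map f) := by
    intro A hA
    rw [← fixCard_subgroupOf hHY (hA.trans hGY), ← fixCard_subgroupOf hVY (hA.trans hGY)]
    refine fixCard_quotient (fun y hy => hVH hy) (fun y hy => ?_) ?_ ?_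
    · rw [mem_normalizer_iff]
      exact fun h => mem_normalizer_iff.1 (hGnH (hA hy)) h
    · rw [Nat.card_congr (subgroupOfEquivOfLe (hA.trans hGY)).toEquiv,
        Nat.card_congr (subgroupOfEquivOfLe hVY).toEquiv]
      exact Nat.Coprime.coprime_dvd_left (card_dvd_of_le hA)
        (Nat.Coprime.coprime_dvd_right (card_dvd_of_le hVH) hcop.symm)
    · exact Group.isSolvable_of_comm fun a b => Subtype.ext (Subtype.ext (hab _ a.2 _ b.2))
  have h0 := formula_elementary (p := p) U E V hUE hUn hfpf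
    (fun x hx v hv => (mem_normalizer_iff.1 (hYV (hGY hx)) v).1 hv) hab hexp (fun hd => by
      have h1 : Nat.Coprime (Nat.card V) (Nat.card ↥(U ⊔ E)) :=
        hcop.coprime_dvd_left (card_dvd_of_le hVH)
      obtain ⟨x, hxV, hx1⟩ := (Subgroup.ne_bot_iff_exists_ne_one).1 hV1 |> fun ⟨a, ha⟩ =>
        (⟨a, a.2, fun h => ha (Subtype.ext h)⟩ : ∃ x : X, x ∈ V ∧ x ≠ 1)
      have hpV : p ∣ Nat.card V := by
        rw [← orderOf_eq_prime (hexp x hxV) hx1, ← Subgroup.orderOf_mk x hxV]
        exact orderOf_dvd_natCard _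
      exact hp.ne_one (Nat.dvd_one.1 (h1 ▸ Nat.dvd_gcd hpV hd)))
  rw [hstep _ le_rfl, hstep _ le_sup_left, hstep _ le_sup_right, ← hVH']
  rw [hG', hcardmap E le_sup_right] at key
  rw [mul_pow, mul_pow]
  calc _ = (fixCard V (U ⊔ E) ^ Nat.card E * Nat.card V) *
        (fixCard H' (((U ⊔ E).subgroupOf Y).map f) ^ Nat.card E * Nat.card H') := by ring
    _ = _ := by rw [h0, key]; ring

end Cfsg.Agent.WielandtFixed
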